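import Cfsg.Agent.H525.L34.Psi
import Cfsg.Agent.H360.L34.NineDims

/-!
# S5917, type D: the nines are abelian (helper525)

* `herm_simp` : the hermitian matrices form a simple module;
* `key_zero` : if the restricted square `q` satisfies `q (φ 1) = a φ 1`, then `β (φ d1) (φ d2) = 0`;
* `nonab` : the bracket of a nine vanishes, if `[2]` on the vectors fixed by the unitary group is the identity or has order
  three modulo the traces.
-/

set_option autoImplicit false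
set_option linter.unusedSectionVars false
set_option linter.constructorNameAsVariable false

namespace Cfsg.Agent.H525.L34

open Matrix Cfsg.Agent.H691.L34 Cfsg.Agent.H288.L34 Cfsg.Agent.SporadicA.FieldFour Module

section

variable {F : Type} [Field F] [Fintype F] {V : Type} [AddCommGroup V] [Module (ZMod 2) V]
  {ρ : Representation (ZMod 2) (G3 F) V}

/-- an additive equivariant map of type `b` on the hermitian matrices -/
structure Eqv (ρ : Representation (ZMod 2) (G3 F) V) (b : Bool) (φ : M3 F → V) : Prop where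
  add : ∀ X Y, HF X → HF Y → φ (X + Y) = φ X + φ Y
  act : ∀ (g : G3 F) X, HF X → ρ g (φ X) = φ (hact (tw b g) X)

/-- an injective one -/
structure Nin (ρ : Representation (ZMod 2) (G3 F) V) (b : Bool) (φ : M3 F → V) : Prop extends Eqv ρ b φ where
  inj : ∀ X, HF X → φ X = 0 → X = 0

theorem HF_one (hF : Fintype.card F = 4) : HF (1 : M3 F) := by
  obtain ⟨e⟩ := ringEq hF
  rw [one_eq e]; exact HF_ev e 265

theorem HFd1 (hF : Fintype.card F = 4) : HF (d1 : M3 F) := by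
  obtain ⟨e⟩ := ringEq hF
  exact HF_d1 e

theorem HFd2 (hF : Fintype.card F = 4) : HF (d2 : M3 F) := by
  obtain ⟨e⟩ := ringEq hF
  exact HF_d2 e

theorem HFadd (hF : Fintype.card F = 4) {X Y : M3 F} (hX : HF X) (hY : HF Y) : HF (X + Y) := by
  obtain ⟨e⟩ := ringEq hF
  exact HF_add X Y (char_two e) hX hY

theorem HFact (hF : Fintype.card F = 4) (g : G3 F) {X : M3 F} (hX : HF X) : HF (hact g X) := by
  obtain ⟨e⟩ := ringEq hF
  exact HF_hact e g X hX

theorem tw_tw (b : Bool) (g : G3 F) : tw b (tw b g) = g := by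
  cases b
  · rfl
  · exact it_it g

theorem Eqv.zero {b : Bool} {φ : M3 F → V} (h : Eqv ρ b φ) : φ 0 = 0 := by
  have h1 := h.add 0 0 HF_zero HF_zero
  rw [add_zero] at h1
  rw [h1, vv]

/-- the range -/
def Rg (hF : Fintype.card F = 4) {b : Bool} {φ : M3 F → V} (h : Eqv ρ b φ) : Submodule (ZMod 2) V where
  carrier := {v | ∃ X, HF X ∧ φ X = v}
  add_mem' := by
    rintro x y ⟨X, hX, rfl⟩ ⟨Y, hY, rfl⟩
    exact ⟨X + Y, HFadd hF hX hY, h.add X Y hX hY⟩
  zero_mem' := ⟨0, HF_zero, h.zero⟩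
  smul_mem' := by
    rintro c x ⟨X, hX, rfl⟩
    have ha : c = 0 ∨ c = 1 := by revert c; decide
    rcases ha with rfl | rfl
    · exact ⟨0, HF_zero, by rw [h.zero, zero_smul]⟩
    · exact ⟨X, hX, by rw [one_smul]⟩

theorem mem_Rg (hF : Fintype.card F = 4) {b : Bool} {φ : M3 F → V} (h : Eqv ρ b φ) (v : V) :
    v ∈ Rg hF h ↔ ∃ X, HF X ∧ φ X = v := Iff.rfl

theorem Rg_inv (hF : Fintype.card F = 4) {b : Bool} {φ : M3 F → V} (h : Eqv ρ b φ) : Inv ρ (Rg hF h) := by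
  rintro g w ⟨X, hX, rfl⟩
  exact ⟨_, HFact hF _ hX, (h.act g X hX).symm⟩

theorem Nin.nine (hF : Fintype.card F = 4) {b : Bool} {φ : M3 F → V} (h : Nin ρ b φ) : IsNine ρ b (Rg hF h.toEqv) :=
  ⟨φ, h.add, h.inj, fun _ => Iff.rfl, h.act⟩

/-- **the hermitian matrices form a simple module** -/
theorem herm_simp (hF : Fintype.card F = 4) {b : Bool} {φ : M3 F → V} (h : Nin ρ b φ) (P : M3 F → Prop) (P0 : P 0)
    (Padd : ∀ X Y, HF X → HF Y → P X → P Y → P (X + Y)) (Pact : ∀ g X, HF X → P X → P (hact g X)) :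
    (∀ X, HF X → P X → X = 0) ∨ ∀ X, HF X → P X := by
  let K : Submodule (ZMod 2) V :=
    { carrier := {v | ∃ X, HF X ∧ P X ∧ φ X = v}
      add_mem' := by
        rintro x y ⟨X, hX, pX, rfl⟩ ⟨Y, hY, pY, rfl⟩
        exact ⟨X + Y, HFadd hF hX hY, Padd X Y hX hY pX pY, h.add X Y hX hY⟩
      zero_mem' := ⟨0, HF_zero, P0, h.zero⟩
      smul_mem' := by
        rintro c x ⟨X, hX, pX, rfl⟩
        have ha : c = 0 ∨ c = 1 := by revert c; decide
        rcases ha with rfl | rfl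
        · exact ⟨0, HF_zero, P0, by rw [h.zero, zero_smul]⟩
        · exact ⟨X, hX, pX, by rw [one_smul]⟩ }
  have hs := H360.L34.nine_simp hF (h.nine hF)
  have hK : K ≤ Rg hF h.toEqv := by
    rintro v ⟨X, hX, -, rfl⟩
    exact ⟨X, hX, rfl⟩
  have hKi : Inv ρ K := by
    rintro g w ⟨X, hX, pX, rfl⟩
    exact ⟨_, HFact hF _ hX, Pact _ _ hX pX, (h.act g X hX).symm⟩
  rcases hs.2.2 K hKi hK with h1 | h1
  · left
    intro X hX pX
    have : φ X ∈ K := ⟨X, hX, pX, rfl⟩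
    rw [h1, Submodule.mem_bot] at this
    exact h.inj X hX this
  · right
    intro X hX
    have : φ X ∈ K := by rw [h1]; exact ⟨X, hX, rfl⟩
    obtain ⟨Y, hY, pY, hXY⟩ := this
    have h2 : φ (X + Y) = 0 := by rw [h.add X Y hX hY, hXY, vv]
    have h3 := h.inj _ (HFadd hF hX hY) h2
    obtain ⟨e⟩ := ringEq hF
    have h4 : X = Y := by
      ext i j
      have h5 := congrFun (congrFun h3 i) j
      have h6 : X i j + Y i j = 0 := h5
      have h7 := char_two e (Y i j)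
      linear_combination h6 - h7
    rw [h4]; exact pY

/-- equivariant maps of the same type with the same value at `1` are equal -/
theorem eqv_ext (hF : Fintype.card F = 4) {b : Bool} {φ : M3 F → V} (h : Nin ρ b φ) {c : Bool} {χ χ' : M3 F → V}
    (h1 : Eqv ρ c χ) (h2 : Eqv ρ c χ') (h3 : χ 1 = χ' 1) : ∀ X, HF X → χ X = χ' X := by
  rcases herm_simp hF h (fun X => χ X = χ' X) (by rw [h1.zero, h2.zero])
      (fun X Y hX hY pX pY => by
        show χ (X + Y) = χ' (X + Y)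
        rw [h1.add X Y hX hY, h2.add X Y hX hY, pX, pY])
      (fun g X hX pX => by
        show χ (hact g X) = χ' (hact g X)
        have e1 := h1.act (tw c g) X hX
        have e2 := h2.act (tw c g) X hX
        rw [tw_tw] at e1 e2
        rw [← e1, ← e2, pX]) with h4 | h4
  · exact absurd (h4 1 (HF_one hF) h3) one_ne_zero
  · exact h4

/-- an equivariant map with a nonzero value at `1` is injective -/
theorem nin_of (hF : Fintype.card F = 4) {b : Bool} {φ : M3 F → V} (h : Nin ρ b φ) {c : Bool} {χ : M3 F → V}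
    (h1 : Eqv ρ c χ) (h3 : χ 1 ≠ 0) : Nin ρ c χ := by
  refine ⟨h1, ?_⟩
  rcases herm_simp hF h (fun X => χ X = 0) h1.zero
      (fun X Y hX hY pX pY => by
        show χ (X + Y) = 0
        rw [h1.add X Y hX hY, pX, pY, add_zero])
      (fun g X hX pX => by
        show χ (hact g X) = 0
        have e1 := h1.act (tw c g) X hX
        rw [tw_tw] at e1
        rw [← e1, pX, map_zero]) with h4 | h4
  · exact h4
  · exact absurd (h4 1 (HF_one hF)) h3

/-- two nines of different types meet trivially -/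
theorem nine_inf (hF : Fintype.card F = 4) {b : Bool} {φ ψ : M3 F → V} (h : Nin ρ b φ) (h' : Nin ρ (!b) ψ) :
    Rg hF h.toEqv ⊓ Rg hF h'.toEqv = ⊥ := by
  have hs := H360.L34.nine_simp hF (h.nine hF)
  have hs' := H360.L34.nine_simp hF (h'.nine hF)
  have hi : Inv ρ (Rg hF h.toEqv ⊓ Rg hF h'.toEqv) := fun g w hw =>
    ⟨Rg_inv hF h.toEqv g w hw.1, Rg_inv hF h'.toEqv g w hw.2⟩
  rcases hs.2.2 _ hi inf_le_left with h1 | h1
  · exact h1
  rcases hs'.2.2 _ hi inf_le_right with h2 | h2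
  · exact h2
  exfalso
  have h3 : Rg hF h.toEqv = Rg hF h'.toEqv := h1.symm.trans h2
  have h4 := h.nine hF
  have h5 := h'.nine hF
  rw [← h3] at h5
  cases b
  · exact H360.L34.nine_ne hF h4 h5
  · exact H360.L34.nine_ne hF h5 h4

/-- sums of equivariant maps -/
theorem Eqv.addm {b : Bool} {φ ψ : M3 F → V} (h : Eqv ρ b φ) (h' : Eqv ρ b ψ) : Eqv ρ b (fun X => φ X + ψ X) :=
  ⟨fun X Y hX hY => by rw [h.add X Y hX hY, h'.add X Y hX hY]; abel, fun g X hX => by
    rw [map_add, h.act g X hX, h'.act g X hX]⟩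

theorem Eqv.smulm {b : Bool} {φ : M3 F → V} (h : Eqv ρ b φ) (a : ZMod 2) : Eqv ρ b (fun X => a • φ X) :=
  ⟨fun X Y hX hY => by rw [h.add X Y hX hY, smul_add], fun g X hX => by rw [map_smul, h.act g X hX]⟩

/-- words from `1` to the four matrices -/
def kw (j : ℕ) : List ℕ := [[8, 3, 0], [0, 3, 9, 1], [7, 0, 2, 0], [8, 6, 9]].getD j []

/-- the four masks -/
def km (j : ℕ) : ℕ := [146, 155, 410, 403].getD j 0

theorem kw_ok : ∀ j < 4, (kw j).foldr (fun g n => act (M g) n) 265 = km j ∧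
    (kw j).all (fun g => decide (g < 10)) = true := by decide +kernel

/-- **if `q (φ 1) = a φ 1` then the bracket vanishes** -/
theorem key_zero (hF : Fintype.card F = 4) {β : V →ₗ[ZMod 2] V →ₗ[ZMod 2] V} {q : V → V}
    (hq : ∀ x y, q (x + y) = q x + q y + β x y) (hqe : ∀ g x, ρ g (q x) = q (ρ g x)) {b : Bool} {φ : M3 F → V}
    (h : Eqv ρ b φ) (a : ZMod 2) (ha : q (φ 1) = a • φ 1) : β (φ d1) (φ d2) = 0 := by
  obtain ⟨e⟩ := ringEq hF
  have h1 : ∀ g : G3 F, q (φ (hact g 1)) = a • φ (hact g 1) := by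
    intro g
    have e1 := h.act (tw b g) 1 (HF_one hF)
    rw [tw_tw] at e1
    rw [← e1, ← hqe, ha, map_smul]
  have h2 : ∀ j < 4, q (φ (mu e (ev B4 (km j)))) = a • φ (mu e (ev B4 (km j))) := by
    intro j hj
    obtain ⟨k1, k2⟩ := kw_ok j hj
    have k3 := hact_word e (kw j) (fun g hg => of_decide_eq_true (List.all_eq_true.1 k2 g hg)) 265
    rw [← one_eq e, k1] at k3
    rw [← k3]; exact h1 _
  have hx : ∀ n m, mu e (ev B4 (n ^^^ m)) = mu e (ev B4 n) + mu e (ev B4 m) := by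
    intro n m
    rw [ev_xor (by
      intro X; ext i j
      have : ∀ a : F4, a + a = 0 := by decide
      exact this _), map_add]
  set X0 := φ (mu e (ev B4 146)) with hX0
  set D1 := φ (d1 : M3 F) with hD1
  set D2 := φ (d2 : M3 F) with hD2
  have e0 : q X0 = a • X0 := h2 0 (by norm_num)
  have e1 : q (X0 + D1) = a • (X0 + D1) := by
    have h3 : φ (mu e (ev B4 155)) = X0 + D1 := by
      rw [hX0, hD1, d1_eq e, ← h.add _ _ (HF_ev e _) (HF_ev e _), ← hx]
      rfl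
    rw [← h3]; exact h2 1 (by norm_num)
  have e2 : q (X0 + D2) = a • (X0 + D2) := by
    have h3 : φ (mu e (ev B4 410)) = X0 + D2 := by
      rw [hX0, hD2, d2_eq e, ← h.add _ _ (HF_ev e _) (HF_ev e _), ← hx]
      rfl
    rw [← h3]; exact h2 2 (by norm_num)
  have e3 : q (X0 + D1 + D2) = a • (X0 + D1 + D2) := by
    have h3 : φ (mu e (ev B4 403)) = X0 + D1 + D2 := by
      rw [hX0, hD1, hD2, d1_eq e, d2_eq e, ← h.add _ _ (HF_ev e _) (HF_ev e _), ← hx,
        ← h.add _ _ (HF_ev e _) (HF_ev e _), ← hx]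
      rfl
    rw [← h3]; exact h2 3 (by norm_num)
  have v2 : ∀ v : V, v + v = 0 := vv
  rw [hq] at e1 e2 e3
  rw [hq] at e3
  have e4 : β (X0 + D1) D2 = β X0 D2 + β D1 D2 := by rw [map_add, LinearMap.add_apply]
  rw [e4, smul_add, smul_add] at e3
  rw [smul_add] at e1 e2
  rw [e0] at e1 e2 e3
  have a1 : q D1 + β X0 D1 = a • D1 := add_left_cancel (by rw [← add_assoc]; exact e1)
  have a2 : q D2 + β X0 D2 = a • D2 := add_left_cancel (by rw [← add_assoc]; exact e2)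
  have a3 : β D1 D2 + (a • X0 + (q D1 + β X0 D1) + (q D2 + β X0 D2)) = a • X0 + a • D1 + a • D2 := by
    rw [← e3]; abel
  rw [a1, a2] at a3
  exact add_right_cancel (a3.trans (zero_add _).symm)

/-- injectivity -/
theorem Nin.eq (hF : Fintype.card F = 4) {b : Bool} {φ : M3 F → V} (h : Nin ρ b φ) {X Y : M3 F} (hX : HF X) (hY : HF Y)
    (hXY : φ X = φ Y) : X = Y := by
  have h2 : φ (X + Y) = 0 := by rw [h.add X Y hX hY, hXY, vv]
  have h3 := h.inj _ (HFadd hF hX hY) h2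
  obtain ⟨e⟩ := ringEq hF
  ext i j
  have h5 := congrFun (congrFun h3 i) j
  have h6 : X i j + Y i j = 0 := h5
  have h7 := char_two e (Y i j)
  linear_combination h6 - h7

theorem fx_mask : ∀ n < 512, act (M 4) n = n → act (M 5) n = n → n = 0 ∨ n = 265 := by decide +kernel

/-- vectors fixed by the unitary group -/
def Fxd (ρ : Representation (ZMod 2) (G3 F) V) (v : V) : Prop := ∀ g : G3 F, hact g (1 : M3 F) = 1 → ρ g v = v

theorem Fxd.add {v w : V} (h : Fxd ρ v) (h' : Fxd ρ w) : Fxd ρ (v + w) := fun g hg => by rw [map_add, h g hg, h' g hg]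

theorem fxd_one (hF : Fintype.card F = 4) {b : Bool} {φ : M3 F → V} (h : Eqv ρ b φ) : Fxd ρ (φ 1) := by
  intro g hg
  obtain ⟨e⟩ := ringEq hF
  rw [h.act g 1 (HF_one hF), unit_tw e b g hg]

theorem fix_herm (hF : Fintype.card F = 4) {b : Bool} {φ : M3 F → V} (h : Nin ρ b φ) {X : M3 F} (hX : HF X)
    (hf : Fxd ρ (φ X)) : ∃ a : ZMod 2, φ X = a • φ 1 := by
  obtain ⟨e⟩ := ringEq hF
  obtain ⟨h1, h2⟩ := idx_spec e X hX
  have key : ∀ k < 10, hact (gF e k) (1 : M3 F) = 1 → act (M k) (idx e X) = idx e X := by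
    intro k hk hu
    have h3 := hf (tw b (gF e k)) (unit_tw e b _ hu)
    rw [h.act _ X hX, tw_tw] at h3
    have h4 := h.eq hF (HFact hF _ hX) hX h3
    rw [← idx_hact e k hk X hX, h4]
  rcases fx_mask _ h1 (key 4 (by norm_num) (unit4 e)) (key 5 (by norm_num) (unit5 e)) with h3 | h3
  · refine ⟨0, ?_⟩
    rw [h3, ev_zero, map_zero] at h2
    rw [h2, h.zero, zero_smul]
  · refine ⟨1, ?_⟩
    rw [h3, ← one_eq e] at h2
    rw [h2, one_smul]

/-- the fixed vectors of the sum of two nines -/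
theorem fix_sum (hF : Fintype.card F = 4) {b : Bool} {φ ψ : M3 F → V} (h : Nin ρ b φ) (h' : Nin ρ (!b) ψ) {X Y : M3 F}
    (hX : HF X) (hY : HF Y) (hf : Fxd ρ (φ X + ψ Y)) : ∃ a c : ZMod 2, φ X + ψ Y = a • φ 1 + c • ψ 1 := by
  have key : ∀ g : G3 F, hact g (1 : M3 F) = 1 → ρ g (φ X) + φ X = 0 ∧ ρ g (ψ Y) + ψ Y = 0 := by
    intro g hg
    have h1 := hf g hg
    rw [map_add] at h1
    have h2 : ρ g (φ X) + φ X = ρ g (ψ Y) + ψ Y := by
      have e1 := vv (φ X)
      have e2 := vv (ρ g (ψ Y))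
      calc ρ g (φ X) + φ X = (ρ g (φ X) + ρ g (ψ Y)) + (ρ g (ψ Y) + φ X) := by
            rw [add_assoc, ← add_assoc (ρ g (ψ Y)), e2, zero_add]
        _ = (φ X + ψ Y) + (ρ g (ψ Y) + φ X) := by rw [h1]
        _ = (φ X + φ X) + (ρ g (ψ Y) + ψ Y) := by abel
        _ = _ := by rw [e1, zero_add]
    have h3 : ρ g (φ X) + φ X ∈ Rg hF h.toEqv ⊓ Rg hF h'.toEqv := by
      refine ⟨Submodule.add_mem _ (Rg_inv hF h.toEqv g _ ⟨X, hX, rfl⟩) ⟨X, hX, rfl⟩, ?_⟩
      rw [h2]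
      exact Submodule.add_mem _ (Rg_inv hF h'.toEqv g _ ⟨Y, hY, rfl⟩) ⟨Y, hY, rfl⟩
    rw [nine_inf hF h h', Submodule.mem_bot] at h3
    exact ⟨h3, by rw [← h2, h3]⟩
  have hx : Fxd ρ (φ X) := by
    intro g hg
    have e1 := (key g hg).1
    have e2 := vv (φ X)
    exact add_right_cancel (e1.trans e2.symm)
  have hy : Fxd ρ (ψ Y) := by
    intro g hg
    have e1 := (key g hg).2
    have e2 := vv (ψ Y)
    exact add_right_cancel (e1.trans e2.symm)
  obtain ⟨a, ha⟩ := fix_herm hF h hX hx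
  obtain ⟨c, hc⟩ := fix_herm hF h' hY hy
  exact ⟨a, c, by rw [ha, hc]⟩

end

section main

variable {F : Type} [Field F] [Fintype F] {V : Type} [AddCommGroup V] [Module (ZMod 2) V] [Module.Finite (ZMod 2) V]
  {ρ : Representation (ZMod 2) (G3 F) V}

theorem finrank_Rg (hF : Fintype.card F = 4) {b : Bool} {φ : M3 F → V} (h : Nin ρ b φ) :
    finrank (ZMod 2) (Rg hF h.toEqv) = 9 := (H360.L34.nine_dims hF (h.nine hF)).1

/-- the squares of a nine together with both nines: a small submodule -/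
theorem small (hF : Fintype.card F = 4) {β : V →ₗ[ZMod 2] V →ₗ[ZMod 2] V} {q : V → V}
    (hq : ∀ x y, q (x + y) = q x + q y + β x y) (hqe : ∀ g x, ρ g (q x) = q (ρ g x)) {b c : Bool} {φ ψ : M3 F → V}
    (h : Nin ρ b φ) (h' : Nin ρ c ψ) (hbr : ∀ X Y, HF X → HF Y → ∃ Z, HF Z ∧ β (φ X) (φ Y) = ψ Z) :
    ∃ Y : Submodule (ZMod 2) V, Inv ρ Y ∧ finrank (ZMod 2) Y < 64 ∧ Rg hF h.toEqv ≤ Y ∧ Rg hF h'.toEqv ≤ Y ∧
      ∀ X, HF X → q (φ X) ∈ Y := by
  obtain ⟨e⟩ := ringEq hF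
  set N := Rg hF h.toEqv with hN
  set N' := Rg hF h'.toEqv with hN'
  set S : Submodule (ZMod 2) V := Submodule.span (ZMod 2) {v | ∃ X, HF X ∧ q (φ X) = v} with hS
  refine ⟨S ⊔ (N ⊔ N'), ?_, ?_, le_sup_left.trans le_sup_right, le_sup_right.trans le_sup_right,
    fun X hX => Submodule.mem_sup_left (Submodule.subset_span ⟨X, hX, rfl⟩)⟩
  · have hSi : Inv ρ S := by
      intro g w hw
      rw [hS] at hw ⊢
      induction hw using Submodule.span_induction with
      | mem x hx =>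
        obtain ⟨X, hX, rfl⟩ := hx
        apply Submodule.subset_span
        exact ⟨_, HFact hF _ hX, by rw [hqe, h.act g X hX]⟩
      | zero => rw [map_zero]; exact Submodule.zero_mem _
      | add x y _ _ hx hy => rw [map_add]; exact Submodule.add_mem _ hx hy
      | smul a x _ hx => rw [map_smul]; exact Submodule.smul_mem _ _ hx
    have hsup : ∀ {A C : Submodule (ZMod 2) V}, Inv ρ A → Inv ρ C → Inv ρ (A ⊔ C) := by
      intro A C hA hC g w hw
      obtain ⟨x, hx, y, hy, rfl⟩ := Submodule.mem_sup.1 hw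
      rw [map_add]
      exact Submodule.add_mem_sup (hA g x hx) (hC g y hy)
    exact hsup hSi (hsup (Rg_inv hF h.toEqv) (Rg_inv hF h'.toEqv))
  · let bb : Fin 9 → V := fun i => q ((el e φ).getD i 0)
    set T : Submodule (ZMod 2) V := Submodule.span (ZMod 2) (Set.range bb) with hT
    have hT9 : finrank (ZMod 2) T ≤ 9 := by
      have := finrank_range_le_card (R := ZMod 2) bb
      rw [Fintype.card_fin] at this
      exact this
    have hq0 : q 0 = 0 := by
      have h1 := hq 0 0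
      rw [add_zero, map_zero, add_zero] at h1
      rw [h1, vv]
    have hlen : (el e φ).length = 9 := by unfold el; rw [List.length_map]; rfl
    have hel : ∀ x ∈ el e φ, x ∈ N ∧ q x ∈ T := by
      intro x hx
      constructor
      · unfold el at hx
        obtain ⟨X, hX, rfl⟩ := List.mem_map.1 hx
        refine ⟨mu e X, ?_, rfl⟩
        have hXh : ct X = X := B4_herm X hX
        unfold HF
        rw [ct_mu, hXh]
      · obtain ⟨i, hi, rfl⟩ := List.getElem_of_mem hx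
        have hi9 : i < 9 := by rw [hlen] at hi; exact hi
        apply Submodule.subset_span
        refine ⟨⟨i, hi9⟩, ?_⟩
        show q ((el e φ).getD i 0) = _
        rw [List.getD_eq_getElem _ _ hi]
    have key : ∀ l : List V, (∀ x ∈ l, x ∈ N ∧ q x ∈ T) → ∀ m, q (ev l m) ∈ T ⊔ N' := by
      intro l
      induction l with
      | nil =>
        intro _ m
        show q 0 ∈ _
        rw [hq0]; exact Submodule.zero_mem _
      | cons v l ih =>
        intro hl m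
        have ih' := ih (fun x hx => hl x (List.mem_cons_of_mem _ hx)) (m / 2)
        rw [ev_cons]
        cases (m % 2).beq 1
        · show q (0 + _) ∈ _
          rw [zero_add]; exact ih'
        · show q (v + _) ∈ _
          rw [hq]
          obtain ⟨⟨X, hX, hXv⟩, hv2⟩ := hl v (List.mem_cons_self ..)
          obtain ⟨Y, hY, hYv⟩ := ev_mem N l (fun x hx => (hl x (List.mem_cons_of_mem _ hx)).1) (m / 2)
          obtain ⟨Z, hZ, hZv⟩ := hbr X Y hX hY
          refine Submodule.add_mem _ (Submodule.add_mem _ (Submodule.mem_sup_left hv2) ih') (Submodule.mem_sup_right ?_)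
          rw [← hXv, ← hYv, hZv]
          exact ⟨Z, hZ, rfl⟩
    have hle : S ⊔ (N ⊔ N') ≤ T ⊔ (N ⊔ N') := by
      apply sup_le _ le_sup_right
      rw [hS, Submodule.span_le]
      rintro v ⟨X, hX, rfl⟩
      obtain ⟨n, hn, rfl⟩ := herm_ev e X hX
      rw [phi_ev e φ h.add]
      have h1 := key (el e φ) hel n
      exact (sup_le_sup_left le_sup_right T) h1
    have h1 := Submodule.finrank_mono hle
    have h2 := Submodule.finrank_add_le_finrank_add_finrank T (N ⊔ N')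
    have h3 := Submodule.finrank_add_le_finrank_add_finrank N N'
    have h4 : finrank (ZMod 2) N = 9 := finrank_Rg hF h
    have h5 : finrank (ZMod 2) N' = 9 := finrank_Rg hF h'
    omega

theorem z01 : ∀ c : ZMod 2, c = 0 ∨ c = 1 := by decide

theorem zsol : ∀ a a' d : ZMod 2, a * a + a' + a + 1 = 0 → a + d + 1 = 0 → a' = 1 ∧ d = a + 1 := by decide

/-- the square at `1` is a combination of the two fixed vectors -/
theorem sq_form (hF : Fintype.card F = 4) {β : V →ₗ[ZMod 2] V →ₗ[ZMod 2] V} {q : V → V}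
    (hq : ∀ x y, q (x + y) = q x + q y + β x y) (hqe : ∀ g x, ρ g (q x) = q (ρ g x)) {TR : Submodule (ZMod 2) V}
    (tz : ∀ X : Submodule (ZMod 2) V, Inv ρ X → finrank (ZMod 2) X < 64 → X ⊓ TR = ⊥)
    {b c : Bool} {φ ψ : M3 F → V} (h : Nin ρ b φ) (h' : Nin ρ c ψ) (hc : c = !b)
    (hbr : ∀ X Y, HF X → HF Y → ∃ Z, HF Z ∧ β (φ X) (φ Y) = ψ Z)
    (dec : ∀ v, Fxd ρ v → ∃ t ∈ TR, ∃ X Y, HF X ∧ HF Y ∧ v = t + (φ X + ψ Y)) :
    ∃ x y : ZMod 2, q (φ 1) = x • φ 1 + y • ψ 1 := by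
  subst hc
  obtain ⟨U, hU, hU64, hN, hN', hqU⟩ := small hF hq hqe h h' hbr
  have hf : Fxd ρ (q (φ 1)) := fun g hg => by rw [hqe, fxd_one hF h.toEqv g hg]
  obtain ⟨t, ht, X, Y, hX, hY, he⟩ := dec _ hf
  have h1 : t ∈ U ⊓ TR := by
    refine ⟨?_, ht⟩
    have h2 : t = q (φ 1) - (φ X + ψ Y) := by rw [he]; abel
    rw [h2]
    exact Submodule.sub_mem _ (hqU 1 (HF_one hF)) (Submodule.add_mem _ (hN ⟨X, hX, rfl⟩) (hN' ⟨Y, hY, rfl⟩))
  rw [tz U hU hU64, Submodule.mem_bot] at h1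
  rw [h1, zero_add] at he
  obtain ⟨x, y, hxy⟩ := fix_sum hF h h' hX hY (he ▸ hf)
  exact ⟨x, y, he.trans hxy⟩

/-- **the nines are abelian in type D** -/
theorem nonab (hF : Fintype.card F = 4) (hc : CT ρ) {n5 n7 : ℕ} (hn5 : n5 = 68 ∨ n5 = 48) (hn7 : n7 = 80 ∨ n7 = 38)
    (hd : Dims ρ (⊤ : Submodule (ZMod 2) V) 248 86 n5 n7) {B : LinearMap.BilinForm (ZMod 2) V} (hB : B.Nondegenerate)
    (hs : ∀ x y, B x y = B y x) (hi : ∀ g x y, B (ρ g x) (ρ g y) = B x y) (h0 : fixAll ρ = ⊥)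
    {β : V →ₗ[ZMod 2] V →ₗ[ZMod 2] V} (hβ : Brk ρ β) {q : V → V}
    (hq : ∀ x y, q (x + y) = q x + q y + β x y) (hqe : ∀ g x, ρ g (q x) = q (ρ g x))
    (hqj : ∀ x y, β (q x) y = β x (β x y))
    (hsm : ∀ (b : Bool) (W : Submodule (ZMod 2) V), IsNine ρ b W → finrank (ZMod 2) (bsp β W) < 36)
    {TR : Submodule (ZMod 2) V}
    (tz : ∀ X : Submodule (ZMod 2) V, Inv ρ X → finrank (ZMod 2) X < 64 → X ⊓ TR = ⊥)
    (two : ∀ (b : Bool) (φ ψ : M3 F → V), Nin ρ b φ → Nin ρ (!b) ψ →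
      (∀ v, Fxd ρ v → ∃ t ∈ TR, ∃ X Y, HF X ∧ HF Y ∧ v = t + (φ X + ψ Y)) ∧
      (∀ v w, Fxd ρ v → Fxd ρ w → β v w = 0) ∧
      ((∀ v, Fxd ρ v → q v + v ∈ TR) ∨ ∀ v, Fxd ρ v → q (q v) + q v + v ∈ TR))
    {b : Bool} {φ : M3 F → V} (h : Nin ρ b φ)
    (hR : ∀ g : G3 F, hact g (1 : M3 F) = 1 → ρ g (β (φ d1) (φ d2)) = β (φ d1) (φ d2)) : β (φ d1) (φ d2) = 0 := by
  by_contra hne
  obtain ⟨ψ, p1, p2, p3, p4, p5⟩ := exists_psi hF hc hn5 hn7 hd hB hs hi h0 hβ h.add h.act hR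
  have hψ : Eqv ρ (!b) ψ := ⟨p1, p2⟩
  have h' : Nin ρ (!b) ψ := nin_of hF h hψ (by rw [p3]; exact hne)
  obtain ⟨dec, hab, hty⟩ := two b φ ψ h h'
  have H1 := HF_one (F := F) hF
  have f1 := fxd_one hF h.toEqv
  have f2 := fxd_one hF h'.toEqv
  have hNi := Rg_inv hF h.toEqv
  have hNi' := Rg_inv hF h'.toEqv
  -- independence modulo the traces
  have ind : ∀ x y : ZMod 2, x • φ 1 + y • ψ 1 ∈ TR → x = 0 ∧ y = 0 := by
    intro x y hxy
    have h1 : x • φ 1 + y • ψ 1 ∈ (Rg hF h.toEqv ⊔ Rg hF h'.toEqv) ⊓ TR :=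
      ⟨Submodule.add_mem_sup (Submodule.smul_mem _ _ ⟨1, H1, rfl⟩) (Submodule.smul_mem _ _ ⟨1, H1, rfl⟩), hxy⟩
    have h2 : Inv ρ (Rg hF h.toEqv ⊔ Rg hF h'.toEqv) := by
      intro g w hw
      obtain ⟨x, hx, y, hy, rfl⟩ := Submodule.mem_sup.1 hw
      rw [map_add]
      exact Submodule.add_mem_sup (hNi g x hx) (hNi' g y hy)
    have h3 : finrank (ZMod 2) ↥(Rg hF h.toEqv ⊔ Rg hF h'.toEqv) < 64 := by
      have k1 := Submodule.finrank_add_le_finrank_add_finrank (Rg hF h.toEqv) (Rg hF h'.toEqv)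
      have k2 := finrank_Rg hF h
      have k3 := finrank_Rg hF h'
      omega
    rw [tz _ h2 h3, Submodule.mem_bot] at h1
    have h4 : x • φ 1 ∈ Rg hF h.toEqv ⊓ Rg hF h'.toEqv := by
      refine ⟨Submodule.smul_mem _ _ ⟨1, H1, rfl⟩, ?_⟩
      have h5 : x • φ 1 = y • ψ 1 := by
        have h6 := vv (y • ψ 1)
        exact add_right_cancel (h1.trans h6.symm)
      rw [h5]
      exact Submodule.smul_mem _ _ ⟨1, H1, rfl⟩
    rw [nine_inf hF h h', Submodule.mem_bot] at h4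
    have h5 : y • ψ 1 = 0 := by rw [h4, zero_add] at h1; exact h1
    have n1 : φ 1 ≠ 0 := fun hh => one_ne_zero (h.inj 1 H1 hh)
    have n2 : ψ 1 ≠ 0 := fun hh => one_ne_zero (h'.inj 1 H1 hh)
    exact ⟨(smul_eq_zero.1 h4).resolve_right n1, (smul_eq_zero.1 h5).resolve_right n2⟩
  obtain ⟨a, c, hq1⟩ := sq_form hF hq hqe tz h h' rfl p5 dec
  have hc1 : c = 1 := by
    rcases z01 c with rfl | rfl
    · exact absurd (key_zero hF hq hqe h.toEqv a (by rw [hq1, zero_smul, add_zero])) hne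
    · rfl
  subst hc1
  rcases hty with hty | hty
  · have h1 := hty _ f1
    rw [hq1] at h1
    have h2 : a • φ 1 + (1 : ZMod 2) • ψ 1 + φ 1 = (a + 1) • φ 1 + (1 : ZMod 2) • ψ 1 := by
      rw [add_smul, one_smul, one_smul]; abel
    rw [h2] at h1
    exact one_ne_zero (ind _ _ h1).2
  -- the second bracket
  have hR' : ∀ g : G3 F, hact g (1 : M3 F) = 1 → ρ g (β (ψ d1) (ψ d2)) = β (ψ d1) (ψ d2) :=
    lam_fix hF hβ h0 p1 (fun v => Iff.rfl) p2 (W := Rg hF h'.toEqv) (hsm _ _ (h'.nine hF))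
  obtain ⟨χ, c1, c2, c3, c4, c5⟩ := exists_psi hF hc hn5 hn7 hd hB hs hi h0 hβ p1 p2 hR'
  have hχ : Eqv ρ b χ := ⟨c1, by
    intro g X hX
    have := c2 g X hX
    rwa [Bool.not_not] at this⟩
  have hχ1 : ∃ x : ZMod 2, χ 1 = x • φ 1 := by
    have hf : Fxd ρ (χ 1) := fxd_one hF hχ
    obtain ⟨t, ht, X, Y, hX, hY, he⟩ := dec _ hf
    by_cases hz : χ 1 = 0
    · exact ⟨0, by rw [zero_smul]; exact hz⟩
    have hN := nin_of hF h hχ hz
    let U : Submodule (ZMod 2) V := Rg hF hχ ⊔ (Rg hF h.toEqv ⊔ Rg hF h'.toEqv)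
    have hU : Inv ρ U := by
      intro g w hw
      obtain ⟨x, hx, y, hy, rfl⟩ := Submodule.mem_sup.1 hw
      obtain ⟨y1, hy1, y2, hy2, rfl⟩ := Submodule.mem_sup.1 hy
      rw [map_add, map_add]
      exact Submodule.add_mem_sup (Rg_inv hF hχ g x hx) (Submodule.add_mem_sup (hNi g y1 hy1) (hNi' g y2 hy2))
    have hU64 : finrank (ZMod 2) U < 64 := by
      show finrank (ZMod 2) ↥(Rg hF hχ ⊔ (Rg hF h.toEqv ⊔ Rg hF h'.toEqv)) < 64
      have k0 := Submodule.finrank_add_le_finrank_add_finrank (Rg hF hχ) (Rg hF h.toEqv ⊔ Rg hF h'.toEqv)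
      have k1 := Submodule.finrank_add_le_finrank_add_finrank (Rg hF h.toEqv) (Rg hF h'.toEqv)
      have k2 := finrank_Rg hF h
      have k3 := finrank_Rg hF h'
      have k4 : finrank (ZMod 2) (Rg hF hχ) = 9 := finrank_Rg hF hN
      omega
    have h1 : t ∈ U ⊓ TR := by
      refine ⟨?_, ht⟩
      have h2 : t = χ 1 - (φ X + ψ Y) := by rw [he]; abel
      rw [h2]
      exact Submodule.sub_mem _ (Submodule.mem_sup_left ⟨1, H1, rfl⟩)
        (Submodule.mem_sup_right (Submodule.add_mem_sup ⟨X, hX, rfl⟩ ⟨Y, hY, rfl⟩))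
    rw [tz U hU hU64, Submodule.mem_bot] at h1
    rw [h1, zero_add] at he
    obtain ⟨x, y, hxy⟩ := fix_sum hF h h' hX hY (he ▸ hf)
    rcases z01 y with rfl | rfl
    · exact ⟨x, by rw [he, hxy, zero_smul, add_zero]⟩
    exfalso
    have hθ : Eqv ρ b (fun X => χ X + x • φ X) := hχ.addm (h.toEqv.smulm x)
    have hθ1 : (fun X => χ X + x • φ X) 1 = ψ 1 := by
      show χ 1 + x • φ 1 = ψ 1
      rw [he, hxy, one_smul]
      have := vv (x • φ 1)
      calc x • φ 1 + ψ 1 + x • φ 1 = (x • φ 1 + x • φ 1) + ψ 1 := by abel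
        _ = ψ 1 := by rw [this, zero_add]
    have n2 : ψ 1 ≠ 0 := fun hh => one_ne_zero (h'.inj 1 H1 hh)
    have hθN : Nin ρ b (fun X => χ X + x • φ X) := nin_of hF h hθ (fun hh => n2 (hθ1.symm.trans hh))
    have h4 : ψ 1 ∈ Rg hF hθN.toEqv ⊓ Rg hF h'.toEqv := ⟨⟨1, H1, hθ1⟩, ⟨1, H1, rfl⟩⟩
    rw [nine_inf hF hθN h', Submodule.mem_bot] at h4
    exact n2 h4
  obtain ⟨x, hx⟩ := hχ1
  have hχφ : ∀ X, HF X → χ X = x • φ X := eqv_ext hF h hχ (h.toEqv.smulm x) hx
  have hbr' : ∀ X Y, HF X → HF Y → ∃ Z, HF Z ∧ β (ψ X) (ψ Y) = φ Z := by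
    intro X Y hX hY
    obtain ⟨Z, hZ, hZv⟩ := c5 X Y hX hY
    rw [hχφ Z hZ] at hZv
    rcases z01 x with rfl | rfl
    · exact ⟨0, HF_zero, by rw [hZv, zero_smul, h.zero]⟩
    · exact ⟨Z, hZ, by rw [hZv, one_smul]⟩
  have dec' : ∀ v, Fxd ρ v → ∃ t ∈ TR, ∃ X Y, HF X ∧ HF Y ∧ v = t + (ψ X + φ Y) := by
    intro v hv
    obtain ⟨t, ht, X, Y, hX, hY, he⟩ := dec v hv
    exact ⟨t, ht, Y, X, hY, hX, by rw [he, add_comm (ψ Y)]⟩
  obtain ⟨d, a', hq2⟩ := sq_form hF hq hqe tz h' h (by rw [Bool.not_not]) hbr' dec'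
  -- the square of order three
  have hq3 : q (q (φ 1)) = a • q (φ 1) + q (ψ 1) := by
    have e1 : ∀ (k : ZMod 2) (v : V), q (k • v) = k • q v := by
      intro k v
      rcases z01 k with rfl | rfl
      · rw [zero_smul, zero_smul]
        have h1 := hq 0 0
        rw [add_zero, map_zero, add_zero] at h1
        rw [h1, vv]
      · rw [one_smul, one_smul]
    conv_lhs => rw [hq1]
    rw [hq, e1, e1, one_smul, map_smul, map_smul, LinearMap.smul_apply, hab _ _ f1 f2, smul_zero, smul_zero, add_zero]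
  have h1 := hty _ f1
  rw [hq3, hq1, hq2] at h1
  have h2 : a • (a • φ 1 + (1 : ZMod 2) • ψ 1) + (d • ψ 1 + a' • φ 1) + (a • φ 1 + (1 : ZMod 2) • ψ 1) + φ 1 =
      (a * a + a' + a + 1) • φ 1 + (a + d + 1) • ψ 1 := by
    simp only [add_smul, smul_add, mul_smul, one_smul]; abel
  rw [h2] at h1
  obtain ⟨i1, i2⟩ := ind _ _ h1
  have n1 : φ 1 ≠ 0 := fun hh => one_ne_zero (h.inj 1 H1 hh)
  obtain ⟨rfl, rfl⟩ := zsol a a' d i1 i2
  rcases z01 x with rfl | rfl
  · -- the second nine is abelian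
    have hz : ∀ X Y, HF X → HF Y → β (ψ X) (ψ Y) = 0 := by
      intro X Y hX hY
      obtain ⟨Z, hZ, hZv⟩ := c5 X Y hX hY
      rw [hZv, hχφ Z hZ, zero_smul]
    have hθ : Eqv ρ (!b) (fun X => q (ψ X) + (a + 1) • ψ X) := by
      refine ⟨fun X Y hX hY => ?_, fun g X hX => ?_⟩
      · show q (ψ (X + Y)) + (a + 1) • ψ (X + Y) = _
        rw [h'.add X Y hX hY, hq, hz X Y hX hY, smul_add]; abel
      · show ρ g (q (ψ X) + (a + 1) • ψ X) = _
        rw [map_add, map_smul, hqe, h'.act g X hX]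
    have hθ1 : (fun X => q (ψ X) + (a + 1) • ψ X) 1 = φ 1 := by
      show q (ψ 1) + (a + 1) • ψ 1 = φ 1
      rw [hq2, one_smul]
      have := vv ((a + 1) • ψ 1)
      calc (a + 1) • ψ 1 + φ 1 + (a + 1) • ψ 1 = ((a + 1) • ψ 1 + (a + 1) • ψ 1) + φ 1 := by abel
        _ = φ 1 := by rw [this, zero_add]
    have hθN : Nin ρ (!b) (fun X => q (ψ X) + (a + 1) • ψ X) := nin_of hF h hθ (fun hh => n1 (hθ1.symm.trans hh))
    have h4 : φ 1 ∈ Rg hF h.toEqv ⊓ Rg hF hθN.toEqv := ⟨⟨1, H1, rfl⟩, ⟨1, H1, hθ1⟩⟩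
    rw [nine_inf hF h hθN, Submodule.mem_bot] at h4
    exact n1 h4
  · -- the eigenvalue argument
    have D1 := HFd1 (F := F) hF
    have hd10 : (d1 : M3 F) ≠ 0 := by
      intro hh
      have := congrFun (congrFun hh 0) 0
      simp [d1] at this
    have y0 : φ d1 ≠ 0 := fun hh => hd10 (h.inj _ D1 hh)
    have z0 : ψ d1 ≠ 0 := fun hh => hd10 (h'.inj _ D1 hh)
    have r1 : β (φ 1) (φ d1) = ψ d1 := p4
    have r2 : β (ψ 1) (ψ d1) = φ d1 := by rw [c4, hχφ _ D1, one_smul]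
    rcases z01 a with rfl | rfl
    · -- `q (φ 1) = ψ 1`, `q (ψ 1) = φ 1 + ψ 1`
      rw [zero_smul, zero_add, one_smul] at hq1
      rw [zero_add, one_smul, one_smul] at hq2
      have U2 : ∀ w, β (ψ 1) w = β (φ 1) (β (φ 1) w) := fun w => by rw [← hqj, hq1]
      have U4 : ∀ w, β (ψ 1) (β (ψ 1) w) = β (ψ 1) w + β (φ 1) w := fun w => by
        rw [← hqj, hq2, map_add, LinearMap.add_apply]
      have s1 : β (φ 1) (β (φ 1) (ψ d1)) = φ d1 := by rw [← U2]; exact r2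
      have s2 : β (ψ 1) (φ d1) = β (φ 1) (ψ d1) := by rw [U2, r1]
      have s3 := U4 (ψ d1)
      rw [r2, s2] at s3
      exact y0 (add_right_cancel ((zero_add _).trans s3)).symm
    · -- `q (φ 1) = φ 1 + ψ 1`, `q (ψ 1) = φ 1`
      have h11 : (1 : ZMod 2) + 1 = 0 := by decide
      rw [one_smul, one_smul] at hq1
      rw [h11, zero_smul, zero_add, one_smul] at hq2
      have T2 : ∀ w, β (φ 1) w = β (ψ 1) (β (ψ 1) w) := fun w => by rw [← hqj, hq2]
      have T4 : ∀ w, β (φ 1) (β (φ 1) w) = β (φ 1) w + β (ψ 1) w := fun w => by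
        rw [← hqj, hq1, map_add, LinearMap.add_apply]
      have s1 : β (φ 1) (ψ d1) = β (ψ 1) (φ d1) := by rw [T2, r2]
      have s3 := T4 (φ d1)
      rw [r1, s1] at s3
      exact z0 (add_right_cancel ((zero_add _).trans s3)).symm

end main

end Cfsg.Agent.H525.L34
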