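import Cfsg.Agent.H525.L34.PsiDat
import Cfsg.Agent.H288.L34.LamEmb
import Cfsg.Agent.H592.L34.ExistsNine
import Cfsg.Agent.H482.LF.SimpB

/-!
# S5917: the square of a nine is a nine of the other type (helper525)

`exists_psi` : if the bracket `β (φ d1) (φ d2)` is fixed by the unitary group, the brackets of the nine `φ` are the values
of an equivariant additive map `ψ` of the other type, `ψ 1 = β (φ d1) (φ d2)`, `β (φ 1) (φ d1) = ψ d1`.
-/

set_option autoImplicit false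
set_option linter.unusedSectionVars false
set_option linter.constructorNameAsVariable false

namespace Cfsg.Agent.H525.L34

open Matrix Cfsg.Agent.H691.L34 Cfsg.Agent.H288.L34 Cfsg.Agent.SporadicA.FieldFour

section words

variable {F : Type} [Field F] (e : F4 ≃+* F)

/-- words of unitary elements moving the frame -/
def uw (j : ℕ) : List ℕ := [[8, 6, 9, 1, 2, 0], [8, 0, 7, 8, 3, 0], [8, 7, 0, 3, 8, 0]].getD j []

theorem uw_ok : ∀ j < 3, (uw j).foldr (fun g n => act (M g) n) 265 = 265 ∧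
    (uw j).foldr (fun g n => act (G g) n) 1073758212 = bt.getD (j + 1) 0 ∧ (uw j).all (fun g => decide (g < 10)) = true := by
  decide +kernel

theorem ev265 : ev B4 265 = (1 : M3 F4) := by
  ext i j
  rw [ev_entry]
  fin_cases i <;> fin_cases j <;> rfl

theorem one_eq : (1 : M3 F) = mu e (ev B4 265) := by rw [ev265, map_one]

theorem hact_word (l : List ℕ) (hl : ∀ g ∈ l, g < 10) (n : ℕ) : hact (l.map (gF e)).prod (mu e (ev B4 n)) =
    mu e (ev B4 (l.foldr (fun g n => act (M g) n) n)) := by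
  induction l with
  | nil =>
    rw [List.map_nil, List.prod_nil, List.foldr_nil]
    have h1 : ct (1 : M3 F) = 1 := by
      unfold ct
      ext i j
      rw [Matrix.transpose_apply, Matrix.map_apply, Matrix.one_apply, Matrix.one_apply]
      by_cases h : i = j
      · rw [if_pos h, if_pos h.symm, one_pow]
      · rw [if_neg h, if_neg (Ne.symm h)]; ring
    unfold hact
    show 1 * _ * ct 1 = _
    rw [h1, Matrix.one_mul, Matrix.mul_one]
  | cons g l ih =>
    rw [List.map_cons, List.prod_cons, hact_mul e, ih fun x hx => hl x (List.mem_cons_of_mem _ hx),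
      hact_gF e g (hl g (List.mem_cons_self ..)), List.foldr_cons]

theorem unit_word (j : ℕ) (hj : j < 3) : hact ((uw j).map (gF e)).prod (1 : M3 F) = 1 := by
  obtain ⟨h1, -, h3⟩ := uw_ok j hj
  rw [one_eq e, hact_word e _ (fun g hg => of_decide_eq_true (List.all_eq_true.1 h3 g hg)), h1]

theorem unit4 : hact (gF e 4) (1 : M3 F) = 1 := by
  have h : act (M 4) 265 = 265 := by decide +kernel
  rw [one_eq e, hact_gF e 4 (by norm_num), h]

theorem unit5 : hact (gF e 5) (1 : M3 F) = 1 := by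
  have h : act (M 5) 265 = 265 := by decide +kernel
  rw [one_eq e, hact_gF e 5 (by norm_num), h]

end words

section

variable {F : Type} [Field F] [Fintype F] {V : Type} [AddCommGroup V] [Module (ZMod 2) V]
  {ρ : Representation (ZMod 2) (G3 F) V} (e : F4 ≃+* F)

/-- the bracket of a mask -/
noncomputable def EV (β : V →ₗ[ZMod 2] V →ₗ[ZMod 2] V) (φ : M3 F → V) (n : ℕ) : V := ev (cl (brA β) (el e φ)) n

theorem EV_xor (β : V →ₗ[ZMod 2] V →ₗ[ZMod 2] V) (φ : M3 F → V) (n m : ℕ) :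
    EV e β φ (n ^^^ m) = EV e β φ n + EV e β φ m := ev_xor vv _ _ _

theorem EV_zero (β : V →ₗ[ZMod 2] V →ₗ[ZMod 2] V) (φ : M3 F → V) : EV e β φ 0 = 0 := ev_zero _

theorem EV_act (β : V →ₗ[ZMod 2] V →ₗ[ZMod 2] V) (φ : M3 F → V) (l : List ℕ) (n : ℕ) :
    EV e β φ (act l n) = ev (l.map (EV e β φ)) n := (ev_map_ev vv _ _ _).symm

variable {β : V →ₗ[ZMod 2] V →ₗ[ZMod 2] V} (hβ : Brk ρ β) {b : Bool} {φ : M3 F → V}
  (h1 : ∀ X Y, HF X → HF Y → φ (X + Y) = φ X + φ Y) (h3 : ∀ (g : G3 F) X, HF X → ρ g (φ X) = φ (hact (tw b g) X))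

include hβ h1 h3 in
theorem rr_EV (g : ℕ) (hg : g < 10) (n : ℕ) : rr e ρ b g (EV e β φ n) = EV e β φ (act (G g) n) :=
  (sys_of e b φ h1 h3).cl vv hβ.alt (brA_eqv hβ e b) g hg n

include hβ h1 h3 in
theorem rho_word (l : List ℕ) (hl : ∀ g ∈ l, g < 10) (n : ℕ) : ρ (tw b (l.map (gF e)).prod) (EV e β φ n) =
    EV e β φ (l.foldr (fun g n => act (G g) n) n) := by
  induction l with
  | nil => rw [List.map_nil, List.prod_nil, map_one, map_one]; rfl
  | cons g l ih =>
    rw [List.map_cons, List.prod_cons, map_mul, map_mul, Module.End.mul_apply,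
      ih fun x hx => hl x (List.mem_cons_of_mem _ hx), List.foldr_cons]
    exact rr_EV e hβ h1 h3 g (hl g (List.mem_cons_self ..)) _

include hβ h1 in
theorem EV_bt0 : EV e β φ 1073758212 = β (φ d1) (φ d2) := by
  rw [d1_eq e, d2_eq e, beta_ev hβ e h1]
  have : wedge 9 264 = 1073758212 := by decide +kernel
  rw [this]; rfl

variable (hR : ∀ g : G3 F, hact g (1 : M3 F) = 1 → ρ g (β (φ d1) (φ d2)) = β (φ d1) (φ d2))

include hβ h1 h3 hR in
theorem EV_dd : dd.map (EV e β φ) = [0, 0, 0] := by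
  have key : ∀ j < 3, EV e β φ (1073758212 ^^^ bt.getD (j + 1) 0) = 0 := by
    intro j hj
    obtain ⟨-, h5, h6⟩ := uw_ok j hj
    have h7 := rho_word e hβ h1 h3 (uw j) (fun g hg => of_decide_eq_true (List.all_eq_true.1 h6 g hg)) 1073758212
    rw [h5, EV_bt0 e hβ h1, hR _ (unit_tw e b _ (unit_word e j hj)), ← EV_bt0 e hβ h1] at h7
    rw [EV_xor, ← h7, vv]
  rw [dd_ok]
  show [_, _, _] = _
  rw [key 0 (by norm_num), key 1 (by norm_num), key 2 (by norm_num)]

include hβ h1 h3 hR in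
/-- **a vector of the image of the kernel, fixed by `3²`, is zero** -/
theorem fixed_zero (n : ℕ) (hn : n < 2 ^ 36) (hC : act Cx n = 0) (h4 : rr e ρ b 4 (EV e β φ n) = EV e β φ n)
    (h5 : rr e ρ b 5 (EV e β φ n) = EV e β φ n) : EV e β φ n = 0 := by
  have hT : ∀ g < 10, ∀ m, rr e ρ b g (EV e β φ m) = EV e β φ m → EV e β φ (Tg g m) = EV e β φ m := by
    intro g hg m hm
    unfold Tg
    rw [EV_xor, EV_xor, ← rr_EV e hβ h1 h3 g hg (act (G g) m), ← rr_EV e hβ h1 h3 g hg m, hm, hm, vv, add_zero]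
  have e5 := hT 5 (by norm_num) n h5
  have e4 := hT 4 (by norm_num) (Tg 5 n) (by rw [e5]; exact h4)
  rw [← e5, ← e4, tr_ker n hn hC, EV_act, EV_dd e hβ h1 h3 hR]
  generalize act tc n = m
  simp [ev]

/-- the image of the kernel -/
def Xk (β : V →ₗ[ZMod 2] V →ₗ[ZMod 2] V) (φ : M3 F → V) : Submodule (ZMod 2) V where
  carrier := {v | ∃ n < 2 ^ 36, act Cx n = 0 ∧ EV e β φ n = v}
  add_mem' := by
    rintro x y ⟨n, hn, hn', rfl⟩ ⟨m, hm, hm', rfl⟩
    exact ⟨n ^^^ m, Nat.xor_lt_two_pow hn hm, by rw [act_xor, hn', hm']; rfl, EV_xor e β φ n m⟩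
  zero_mem' := ⟨0, by norm_num, act_zero _, EV_zero e β φ⟩
  smul_mem' := by
    rintro c x ⟨n, hn, hn', rfl⟩
    have ha : c = 0 ∨ c = 1 := by revert c; decide
    rcases ha with rfl | rfl
    · exact ⟨0, by norm_num, act_zero _, by rw [zero_smul]; exact EV_zero e β φ⟩
    · exact ⟨n, hn, hn', by rw [one_smul]⟩

theorem M_zero (g : ℕ) : act (M g) 0 = 0 := act_zero _

theorem G_lt : ∀ g < 10, ltOK (G g) 36 = true := by decide +kernel

theorem tau_lt : ∀ g < 10, tau g < 10 ∧ tau (tau g) = g := by decide +kernel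

include hβ h1 h3 in
theorem Xk_inv : Inv ρ (Xk e β φ) := by
  have h : ∀ g, ∀ w ∈ Xk e β φ, ρ (tw b g) w ∈ Xk e β φ := by
    intro g
    apply gen_ind e (fun g => ∀ w ∈ Xk e β φ, ρ (tw b g) w ∈ Xk e β φ)
    · intro w hw
      rw [map_one, map_one]; exact hw
    · intro x y hx hy w hw
      rw [map_mul, map_mul, Module.End.mul_apply]
      exact hx _ (hy w hw)
    · rintro k hk w ⟨n, hn, hC, rfl⟩
      exact ⟨act (G k) n, act_lt _ _ _ (G_lt k hk), by rw [Cx_act k hk, hC, act_zero], (rr_EV e hβ h1 h3 k hk n).symm⟩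
  intro g w hw
  have h4 := h (tw b g) w hw
  have h5 : tw b (tw b g) = g := by
    cases b
    · rfl
    · exact it_it g
  rwa [h5] at h4

end

section main

variable {F : Type} [Field F] [Fintype F] {V : Type} [AddCommGroup V] [Module (ZMod 2) V] [Module.Finite (ZMod 2) V]
  {ρ : Representation (ZMod 2) (G3 F) V}

open Module Cfsg.Agent.H592.L34

/-- a simple submodule of type 16 is nondegenerate -/
theorem nondeg16 (hF : Fintype.card F = 4) (hc : CT ρ) {n5 n7 : ℕ} (hn5 : n5 = 68 ∨ n5 = 48) (hn7 : n7 = 80 ∨ n7 = 38)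
    (hd : Dims ρ (⊤ : Submodule (ZMod 2) V) 248 86 n5 n7) {B : LinearMap.BilinForm (ZMod 2) V} (hB : B.Nondegenerate)
    (hs : ∀ x y, B x y = B y x) (hi : ∀ g x y, B (ρ g x) (ρ g y) = B x y) {W : Submodule (ZMod 2) V} (hW : Simp ρ W)
    (hW16 : Is16 ρ W) : W ⊓ B.orthogonal W = ⊥ := by
  obtain ⟨g3, hg3, hg3c⟩ := exists_three (F := F) hF
  obtain ⟨g5, hg5⟩ := exists_order (F := F) hF (p := 5) (by norm_num) (by norm_num)
  obtain ⟨g7, hg7⟩ := exists_order (F := F) hF (p := 7) (by norm_num) (by norm_num)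
  obtain ⟨d0, d3, d5, d7⟩ := hd
  have d3 := d3 g3 hg3 hg3c
  have d5 := d5 g5 hg5
  have d7 := d7 g7 hg7
  have hrefl : B.IsRefl := fun x y h => by rw [hs]; exact h
  have ho := inv_orth hi hW.1
  rcases hW.2.2 _ (inv_inf hW.1 ho) inf_le_left with h | h
  · exact h
  · exfalso
    have hle : W ≤ B.orthogonal W := inf_eq_left.1 h
    obtain ⟨e0, e3, e5, e7⟩ := hW16
    have e3 := e3 g3 hg3 hg3c
    have e5 := e5 g5 hg5
    have e7 := e7 g7 hg7
    obtain ⟨a1, b1, c1, f1, p0, p3, p5, p7⟩ := H482.LF.PL hF hc hW.1 ho hle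
    obtain ⟨a2, b2, c2, f2, q0, q3, q5, q7⟩ := H482.LF.PL hF hc ho inv_top le_top
    have p3 := p3 g3 hg3 hg3c
    have p5 := p5 g5 hg5
    have p7 := p7 g7 hg7
    have q3 := q3 g3 hg3 hg3c
    have q5 := q5 g5 hg5
    have q7 := q7 g7 hg7
    have hdim := LinearMap.BilinForm.finrank_orthogonal hB W
    have hV : finrank (ZMod 2) (⊤ : Submodule (ZMod 2) V) = finrank (ZMod 2) V := finrank_top _ _
    have hle' := Submodule.finrank_le W
    rw [e0] at hdim p0 hle'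
    rw [e3] at p3
    rw [e5] at p5
    rw [e7] at p7
    rw [d0] at q0 hV
    rw [d3] at q3
    rw [d5] at q5
    rw [d7] at q7
    rw [← hV] at hdim hle'
    exact num hn5 hn7 (by omega) p0 p3 p5 p7 q0 q3 q5 q7

/-- the equivariant projection onto a nondegenerate submodule -/
theorem exists_proj {B : LinearMap.BilinForm (ZMod 2) V} (hB : B.Nondegenerate)
    (hi : ∀ g x y, B (ρ g x) (ρ g y) = B x y) {W : Submodule (ZMod 2) V} (hW : Inv ρ W)
    (h : W ⊓ B.orthogonal W = ⊥) : ∃ π : V →ₗ[ZMod 2] V, (∀ v, π v ∈ W) ∧ (∀ w ∈ W, π w = w) ∧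
      ∀ g v, ρ g (π v) = π (ρ g v) := by
  have ho := inv_orth hi hW
  have h2 : W ⊔ B.orthogonal W = ⊤ := by
    apply Submodule.eq_top_of_finrank_eq
    have h3 := Submodule.finrank_sup_add_finrank_inf_eq W (B.orthogonal W)
    rw [h, finrank_bot] at h3
    have hdim := LinearMap.BilinForm.finrank_orthogonal hB W
    have hle' := Submodule.finrank_le W
    omega
  have hcompl : IsCompl W (B.orthogonal W) := ⟨disjoint_iff.2 h, codisjoint_iff.2 h2⟩
  refine ⟨W.subtype ∘ₗ Submodule.projectionOnto W (B.orthogonal W) hcompl, fun v => ?_, fun w hw => ?_,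
    fun g v => ?_⟩
  · exact (Submodule.projectionOnto W (B.orthogonal W) hcompl v).2
  · show ((Submodule.projectionOnto W (B.orthogonal W) hcompl w : W) : V) = w
    have := Submodule.projectionOnto_apply_left hcompl ⟨w, hw⟩
    exact congrArg Subtype.val this
  · have hv : v ∈ W ⊔ B.orthogonal W := by rw [h2]; exact Submodule.mem_top
    obtain ⟨x, hx, y, hy, rfl⟩ := Submodule.mem_sup.1 hv
    have k1 : ∀ (x : V) (hx : x ∈ W), Submodule.projectionOnto W (B.orthogonal W) hcompl x = ⟨x, hx⟩ :=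
      fun x hx => Submodule.projectionOnto_apply_left hcompl ⟨x, hx⟩
    have k2 : ∀ y ∈ B.orthogonal W, Submodule.projectionOnto W (B.orthogonal W) hcompl y = 0 :=
      fun y hy => (Submodule.projectionOnto_apply_eq_zero_iff hcompl).2 hy
    show ρ g ((Submodule.projectionOnto W (B.orthogonal W) hcompl (x + y) : W) : V) =
      ((Submodule.projectionOnto W (B.orthogonal W) hcompl (ρ g (x + y)) : W) : V)
    rw [map_add, map_add, map_add, k1 x hx, k2 y hy, k1 _ (hW g x hx), k2 _ (ho g y hy), add_zero, add_zero]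

/-- the kernel of `Λ² 9 → 9b` vanishes -/
theorem ker_zero (hF : Fintype.card F = 4) (hc : CT ρ) {n5 n7 : ℕ} (hn5 : n5 = 68 ∨ n5 = 48) (hn7 : n7 = 80 ∨ n7 = 38)
    (hd : Dims ρ (⊤ : Submodule (ZMod 2) V) 248 86 n5 n7) {B : LinearMap.BilinForm (ZMod 2) V} (hB : B.Nondegenerate)
    (hs : ∀ x y, B x y = B y x) (hi : ∀ g x y, B (ρ g x) (ρ g y) = B x y) (h0 : fixAll ρ = ⊥)
    {β : V →ₗ[ZMod 2] V →ₗ[ZMod 2] V} (hβ : Brk ρ β) (e : F4 ≃+* F) {b : Bool} {φ : M3 F → V}
    (h1 : ∀ X Y, HF X → HF Y → φ (X + Y) = φ X + φ Y) (h3 : ∀ (g : G3 F) X, HF X → ρ g (φ X) = φ (hact (tw b g) X))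
    (hR : ∀ g : G3 F, hact g (1 : M3 F) = 1 → ρ g (β (φ d1) (φ d2)) = β (φ d1) (φ d2)) (n : ℕ) (hn : n < 2 ^ 36)
    (hC : act Cx n = 0) : EV e β φ n = 0 := by
  classical
  have hfin : Finite V := Module.finite_of_finite (ZMod 2)
  by_contra hne
  have hX : Xk e β φ ≠ ⊥ := fun h => hne ((Submodule.mem_bot (ZMod 2)).1 (h ▸ (⟨n, hn, hC, rfl⟩ : EV e β φ n ∈ Xk e β φ)))
  obtain ⟨W, hW, hWX⟩ := H592.L34.exists_simp (Xk_inv e hβ h1 h3) hX
  have key : ∀ v ∈ Xk e β φ, rr e ρ b 4 v = v → rr e ρ b 5 v = v → v = 0 := by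
    rintro v ⟨m, hm, hmC, rfl⟩ h4 h5
    exact fixed_zero e hβ h1 h3 hR m hm hmC h4 h5
  have hnine : ∀ c, IsNine ρ c W → False := by
    rintro c ⟨χ, g1, g2, g3, g4⟩
    have hH : HF (1 : M3 F) := by
      rw [one_eq e]; exact HF_ev e 265
    have hv : χ 1 ∈ W := (g3 _).2 ⟨1, hH, rfl⟩
    have h6 : ∀ g : G3 F, hact g (1 : M3 F) = 1 → ρ (tw b g) (χ 1) = χ 1 := by
      intro g hg
      rw [g4 _ _ hH, unit_tw e c _ (unit_tw e b g hg)]
    have h7 := key (χ 1) (hWX hv) (h6 _ (unit4 e)) (h6 _ (unit5 e))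
    have h8 := g2 1 hH h7
    exact one_ne_zero h8
  rcases H482.LF.simp_cases hF hc hW with h | h | h | h | h
  · apply hW.2.1
    rw [eq_bot_iff]
    intro v hv
    rw [← h0]
    exact fun g => h v hv g
  · exact hnine _ h
  · exact hnine _ h
  · obtain ⟨π, p1, p2, p3⟩ := exists_proj hB hi hW.1 (nondeg16 hF hc hn5 hn7 hd hB hs hi hW h)
    -- the projected bracket
    let β' : V →ₗ[ZMod 2] V →ₗ[ZMod 2] V := β.compr₂ π
    have hβ' : Brk ρ β' := ⟨fun x => by
        show π (β x x) = 0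
        rw [hβ.alt, map_zero], fun g x y => by
        show ρ g (π (β x y)) = π (β (ρ g x) (ρ g y))
        rw [p3, hβ.inv]⟩
    have h6 : ∀ g : G3 F, hact g (1 : M3 F) = 1 → ρ (tw b g) (π (β (φ d1) (φ d2))) = π (β (φ d1) (φ d2)) := by
      intro g hg
      rw [p3, hR _ (unit_tw e b g hg)]
    have h7 : β' (φ d1) (φ d2) = 0 := key _ (hWX (p1 _)) (h6 _ (unit4 e)) (h6 _ (unit5 e))
    have h8 : ∀ m < 2 ^ 36, ev (cl (brA β') (el e φ)) m = 0 :=
      (sys_of e b φ h1 h3).zero_of vv hβ'.alt (brA_eqv hβ' e b) ((EV_bt0 e hβ' h1).trans h7)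
    have h9 : ∀ m, ev (cl (brA β') (el e φ)) m = π (EV e β φ m) := by
      intro m
      have h10 := map_ev π.toAddMonoidHom (cl (brA β) (el e φ)) m
      refine Eq.trans ?_ h10.symm
      congr 1
    apply hW.2.1
    rw [eq_bot_iff]
    intro v hv
    obtain ⟨m, hm, -, rfl⟩ := hWX hv
    rw [Submodule.mem_bot, ← p2 _ hv, ← h9, h8 m hm]
  · have h64 : finrank (ZMod 2) W = 64 := h.1.1
    have hcW : Nat.card W = 2 ^ 64 := by rw [card_sub, h64]
    have hs : Function.Surjective (fun k : Fin (2 ^ 36) => if h : act Cx k = 0 then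
        (⟨EV e β φ k, ⟨k, k.2, h, rfl⟩⟩ : Xk e β φ) else 0) := by
      rintro ⟨v, m, hm, hmC, rfl⟩
      refine ⟨⟨m, hm⟩, ?_⟩
      show (if h : act Cx m = 0 then _ else _) = _
      rw [dif_pos hmC]
    have h9 := Nat.card_le_card_of_surjective _ hs
    have h10 : Nat.card W ≤ Nat.card (Xk e β φ) :=
      Nat.card_le_card_of_injective (Submodule.inclusion hWX) (Submodule.inclusion_injective hWX)
    rw [Nat.card_eq_fintype_card (α := Fin (2 ^ 36)), Fintype.card_fin] at h9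
    have h11 : (2 ^ 64 : ℕ) ≤ 2 ^ 36 := hcW ▸ (h10.trans h9)
    norm_num at h11

/-- **the brackets of a nine form a nine of the other type** -/
theorem exists_psi (hF : Fintype.card F = 4) (hc : CT ρ) {n5 n7 : ℕ} (hn5 : n5 = 68 ∨ n5 = 48) (hn7 : n7 = 80 ∨ n7 = 38)
    (hd : Dims ρ (⊤ : Submodule (ZMod 2) V) 248 86 n5 n7) {B : LinearMap.BilinForm (ZMod 2) V} (hB : B.Nondegenerate)
    (hs : ∀ x y, B x y = B y x) (hi : ∀ g x y, B (ρ g x) (ρ g y) = B x y) (h0 : fixAll ρ = ⊥)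
    {β : V →ₗ[ZMod 2] V →ₗ[ZMod 2] V} (hβ : Brk ρ β) {b : Bool} {φ : M3 F → V}
    (h1 : ∀ X Y, HF X → HF Y → φ (X + Y) = φ X + φ Y) (h3 : ∀ (g : G3 F) X, HF X → ρ g (φ X) = φ (hact (tw b g) X))
    (hR : ∀ g : G3 F, hact g (1 : M3 F) = 1 → ρ g (β (φ d1) (φ d2)) = β (φ d1) (φ d2)) :
    ∃ ψ : M3 F → V, (∀ X Y, HF X → HF Y → ψ (X + Y) = ψ X + ψ Y) ∧
      (∀ (g : G3 F) X, HF X → ρ g (ψ X) = ψ (hact (tw (!b) g) X)) ∧ ψ 1 = β (φ d1) (φ d2) ∧
      β (φ 1) (φ d1) = ψ d1 ∧ ∀ X Y, HF X → HF Y → ∃ Z, HF Z ∧ β (φ X) (φ Y) = ψ Z := by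
  obtain ⟨e⟩ := ringEq hF
  have hk := ker_zero hF hc hn5 hn7 hd hB hs hi h0 hβ e h1 h3 hR
  set f : List V := sg.map (EV e β φ) with hf
  have hef : ∀ m, ev f m = EV e β φ (act sg m) := fun m => (EV_act e β φ sg m).symm
  have key : ∀ n < 2 ^ 36, EV e β φ n = ev f (act Cx n) := by
    intro n hn
    have h4 := hk (n ^^^ act sg (act Cx n)) (Nat.xor_lt_two_pow hn (sg_lt _)) (by
      rw [act_xor, Cx_sg _ (Cx_lt n), Nat.xor_self])
    rw [EV_xor, ← hef] at h4
    have h5 := vv (ev f (act Cx n))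
    exact add_right_cancel (h4.trans h5.symm)
  have hSys : Sys (fun g => rr e ρ b (tau g)) f := by
    refine ⟨by rw [hf, List.length_map]; rfl, fun g hg => ?_⟩
    obtain ⟨t1, t2⟩ := tau_lt g hg
    have hM : (pows 9 0).map (act (M g)) = M g := by
      have : ∀ g < 10, (pows 9 0).map (act (M g)) = M g := by decide +kernel
      exact this g hg
    have e1 : sg.map (rr e ρ b (tau g) ∘ EV e β φ) = sg.map (fun m => ev f (act (M g) (act Cx m))) := by
      apply List.map_congr_left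
      intro m hm
      show rr e ρ b (tau g) (EV e β φ m) = _
      rw [rr_EV e hβ h1 h3 _ t1, key _ (act_lt _ _ _ (G_lt _ t1)), Cx_act _ t1, t2]
    have e2 : sg.map (fun m => ev f (act (M g) (act Cx m))) = (sg.map (act Cx)).map (fun k => ev f (act (M g) k)) := by
      rw [List.map_map]; rfl
    have e3 : f.map (rr e ρ b (tau g)) = sg.map (rr e ρ b (tau g) ∘ EV e β φ) := by rw [hf, List.map_map]
    refine e3.trans (e1.trans (e2.trans ?_))
    rw [sg_ok]
    conv_rhs => rw [← hM]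
    rw [List.map_map]
    rfl
  have hco : ∀ k < 2 ^ 9, ev f k = ev f (idx e (cjm e (cjm e (mu e (ev B4 k))))) := by
    intro k hk
    rw [cjm_cjm, idx_ev e k hk]
  refine ⟨fun X => ev f (idx e (cjm e X)), ?_, ?_, ?_, ?_, ?_⟩
  · intro X Y hX hY
    show ev f (idx e (cjm e (X + Y))) = ev f _ + ev f _
    rw [map_add, idx_add e _ _ (HF_cjm e X hX) (HF_cjm e Y hY), ev_xor vv]
  · intro g X hX
    show ρ g (ev f (idx e (cjm e X))) = ev f (idx e (cjm e (hact (tw (!b) g) X)))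
    rw [cjm_hact, ← psi_all e b f hSys _ _ (HF_cjm e X hX), cj_cj, tw_it]
  · show ev f (idx e (cjm e 1)) = _
    rw [map_one, one_eq e, idx_ev e 265 (by norm_num), ← bt0, ← key _ (by norm_num), EV_bt0 e hβ h1]
  · show _ = ev f (idx e (cjm e d1))
    have h4 : cjm e (d1 : M3 F) = d1 := by
      ext i j
      show (d1 i j : F) ^ 2 = d1 i j
      fin_cases i <;> fin_cases j <;> simp [d1]
    have h5 : idx e (d1 : M3 F) = 9 := by rw [d1_eq e, idx_ev e 9 (by norm_num)]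
    rw [h4, h5, one_eq e, d1_eq e, beta_ev hβ e h1, ← w1, ← key _ (wedge_lt _ _)]
    rfl
  · intro X Y hX hY
    obtain ⟨n, hn, rfl⟩ := herm_ev e X hX
    obtain ⟨m, hm, rfl⟩ := herm_ev e Y hY
    refine ⟨cjm e (mu e (ev B4 (act Cx (wedge n m)))), HF_cjm e _ (HF_ev e _), ?_⟩
    show _ = ev f (idx e (cjm e (cjm e _)))
    rw [← hco _ (Cx_lt _), beta_ev hβ e h1, ← key _ (wedge_lt _ _)]
    rfl

end main

end Cfsg.Agent.H525.L34
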