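import Cfsg.Agent.H288.L34.Lam

/-!
# S5917: the map `Λ² 9 → 9b` (cross product of hermitian matrices) on bit masks (helper525)

* `Cx`, `sg` : the map and a section;
* `tr_ker` : the trace over `3²` of the kernel lies in the span of the three differences.
-/

set_option autoImplicit false

namespace Cfsg.Agent.H525.L34

open Cfsg.Agent.H288.L34

/-- columns of the map onto the dual nine -/
def Cx : List ℕ := [0, 0, 256, 0, 0, 256, 64, 128, 0, 64, 128, 0, 192, 64, 8, 16, 32, 32, 48, 16, 32, 8, 2, 4, 0, 0, 2, 6,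
  4, 2, 1, 0, 0, 1, 0, 0]

/-- a section -/
def sg : List ℕ := [1073741824, 4194304, 8388608, 16384, 32768, 65536, 64, 128, 4]

/-- the three differences -/
def dd : List ℕ := [10135754276, 10605683236, 10270209060]

/-- coordinates of the traces -/
def tc : List ℕ := [0, 0, 0, 0, 0, 7, 0, 0, 0, 6, 5, 0, 5, 3, 0, 0, 0, 6, 5, 6, 5, 7, 0, 0, 0, 0, 6, 3, 3, 5, 0, 0, 0, 7,
  0, 0]

theorem dd_ok : dd = [1073758212 ^^^ bt.getD 1 0, 1073758212 ^^^ bt.getD 2 0, 1073758212 ^^^ bt.getD 3 0] := by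
  decide +kernel

theorem act_lin (f : ℕ → ℕ) (h0 : f 0 = 0) (hx : ∀ a b, f (a ^^^ b) = f a ^^^ f b) (l : List ℕ) (n : ℕ) :
    f (act l n) = act (l.map f) n := by
  induction l generalizing n with
  | nil => exact h0
  | cons c l ih =>
    rw [act_cons, hx, ih, List.map_cons, act_cons]
    congr 1
    cases (n % 2).beq 1
    · exact h0
    · rfl

/-- projection onto the kernel -/
def Pk (n : ℕ) : ℕ := n ^^^ act sg (act Cx n)

/-- the trace of a group of order three -/
def Tg (g n : ℕ) : ℕ := n ^^^ (act (G g) n ^^^ act (G g) (act (G g) n))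

theorem xor4 (a b c d : ℕ) : (a ^^^ b) ^^^ (c ^^^ d) = (a ^^^ c) ^^^ (b ^^^ d) := by
  rw [Nat.xor_assoc, Nat.xor_assoc, ← Nat.xor_assoc b c d, ← Nat.xor_assoc c b d, Nat.xor_comm b c]

theorem Pk_zero : Pk 0 = 0 := by unfold Pk; rw [act_zero, act_zero]; rfl

theorem Pk_xor (a b : ℕ) : Pk (a ^^^ b) = Pk a ^^^ Pk b := by
  unfold Pk
  rw [act_xor, act_xor, xor4]

theorem Tg_zero (g : ℕ) : Tg g 0 = 0 := by unfold Tg; rw [act_zero, act_zero]; rfl

theorem Tg_xor (g a b : ℕ) : Tg g (a ^^^ b) = Tg g a ^^^ Tg g b := by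
  unfold Tg
  rw [act_xor, act_xor, xor4 (act (G g) a), xor4]

theorem tr_ok : (pows 36 0).map (fun n => Tg 4 (Tg 5 (Pk n))) = tc.map (act dd) := by decide +kernel

/-- **the trace over `3²` of an element of the kernel is a combination of the three differences** -/
theorem tr_ker (n : ℕ) (hn : n < 2 ^ 36) (h : act Cx n = 0) : Tg 4 (Tg 5 n) = act dd (act tc n) := by
  have h1 : Pk n = n := by
    unfold Pk
    rw [h, act_zero, Nat.xor_zero]
  have h2 : Tg 4 (Tg 5 (Pk (act (pows 36 0) n))) = act ((pows 36 0).map (fun n => Tg 4 (Tg 5 (Pk n)))) n :=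
    act_lin (fun n => Tg 4 (Tg 5 (Pk n))) (by rw [Pk_zero, Tg_zero, Tg_zero])
      (fun a b => by rw [Pk_xor, Tg_xor, Tg_xor]) _ _
  rw [act_pows_zero 36 n hn, h1, tr_ok] at h2
  rw [h2, act_act]

theorem Cx_G : ∀ g < 10, (G g).map (act Cx) = Cx.map (act (M (tau g))) := by decide +kernel

theorem Cx_act (g : ℕ) (hg : g < 10) (n : ℕ) : act Cx (act (G g) n) = act (M (tau g)) (act Cx n) := by
  rw [act_act, act_act, Cx_G g hg]

theorem sg_ok : sg.map (act Cx) = pows 9 0 := by decide +kernel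

theorem Cx_sg (m : ℕ) (hm : m < 2 ^ 9) : act Cx (act sg m) = m := by
  rw [act_act, sg_ok, act_pows_zero 9 m hm]

theorem Cx_lt (n : ℕ) : act Cx n < 2 ^ 9 := act_lt _ _ _ (by decide +kernel)

theorem sg_lt (n : ℕ) : act sg n < 2 ^ 36 := act_lt _ _ _ (by decide +kernel)

theorem M_lt9 : ∀ g < 10, ltOK (M g) 9 = true := by decide +kernel

theorem bt0 : act Cx 1073758212 = 265 := by decide +kernel

/-- `d1 ∧ 1` -/
theorem w1 : act Cx (wedge 265 9) = 9 := by decide +kernel

end Cfsg.Agent.H525.L34
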